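import Cfsg.Agent.CoOneUniq.Final.Words
import Cfsg.Agent.Leech.Orbits
import Cfsg.Agent.Leech.Monomial

/-!
The sign change on a dodecad in the first Conway group: its centraliser is monomial, it is not
conjugate to the marked involution, and the involutions lifting to elements of order four form a
further class, kept by multiplication with the marked involution.
-/

set_option autoImplicit false
set_option linter.unusedSimpArgs false
set_option linter.unusedTactic false

open Cfsg

namespace Cfsg.Agent.CoOneUniq.Endgame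

open Cfsg.Agent.Leech (signCo0 permCo0 zneg)
open Cfsg.Agent.Leech.CentOne (toCo zC)

/-- A dodecad word exchanged with its complement by `x ↦ -1/x`. -/
def dW : Word := Leech.bitWord 681662

theorem dW_facts : Leech.dec dW = dW ∧ hammingNorm dW = 12 ∧
    (fun p => dW (projInv⁻¹ p)) = dW + 1 ∧ projInv * projInv = 1 := by decide +kernel

theorem dW_mem : dW ∈ golayCode := (Leech.mem_iff _).2 dW_facts.1

/-- The marked involution of the dodecad class. -/
noncomputable def dC : Spor.Co1 := sg dW

/-- The involution lifts to an element of order four. -/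
def Bad (x : Spor.Co1) : Prop := ∃ X : ↥Co0, toCo X = x ∧ X * X = zneg

theorem bad_conj {x y : Spor.Co1} (h : IsConj x y) (hx : Bad x) : Bad y := by
  obtain ⟨g, hg⟩ := isConj_iff.1 h
  obtain ⟨X, hX, hXX⟩ := hx
  obtain ⟨k, rfl⟩ := QuotientGroup.mk'_surjective _ g
  refine ⟨k * X * k⁻¹, ?_, ?_⟩
  · rw [map_mul, map_mul, map_inv, hX]; exact hg
  · rw [show k * X * k⁻¹ * (k * X * k⁻¹) = k * (X * X) * k⁻¹ by group, hXX, Leech.zneg_comm k,
      mul_inv_cancel_right]

theorem not_bad_sg {c : Word} (hc : c ∈ golayCode) : ¬ Bad (sg c) := by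
  rintro ⟨X, hX, hXX⟩
  rw [sg_eq hc] at hX
  have hz : zneg * zneg = (1 : ↥Co0) := by rw [← sq]; exact Leech.zneg_sq
  have hs : signCo0 c hc * signCo0 c hc = 1 := by
    rw [Leech.signCo0_mul, Leech.signCo0_congr (CharTwo.add_self_eq_zero c) _ (zero_mem _),
      Leech.signCo0_zero]
  refine Leech.zneg_ne_one (hXX.symm.trans ?_)
  rcases Leech.CentOne.toCo_eq_iff.1 hX.symm with rfl | rfl
  · exact hs
  · rw [show signCo0 c hc * zneg * (signCo0 c hc * zneg) =
      signCo0 c hc * (zneg * signCo0 c hc) * zneg by group, ← Leech.zneg_comm, ← mul_assoc, hs,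
      one_mul, hz]

theorem bad_mul_zC {x : Spor.Co1} (hc : x * zC = zC * x) (hx : Bad x) : Bad (zC * x) := by
  obtain ⟨X, rfl, hXX⟩ := hx
  refine ⟨Leech.CentTwo.tGen.g * X, by rw [map_mul]; rfl, ?_⟩
  have hcomm : X * Leech.CentTwo.tGen.g = Leech.CentTwo.tGen.g * X := by
    rw [Leech.CentOne.zC, ← map_mul, ← map_mul, Leech.CentOne.toCo_eq_iff] at hc
    rcases hc with e | e
    · exact e.symm
    · exact absurd e (Leech.CentOne.not_flip X)
  rw [show Leech.CentTwo.tGen.g * X * (Leech.CentTwo.tGen.g * X) =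
      Leech.CentTwo.tGen.g * (X * Leech.CentTwo.tGen.g) * X by group, hcomm, ← mul_assoc,
    Leech.CentOne.tGen_inv, one_mul, hXX]

/-- An involution of the third class. -/
noncomputable def bC : Spor.Co1 :=
  toCo (signCo0 dW dW_mem * permCo0 projInv Leech.projInv_mem)

theorem flip_dW : permCo0 projInv Leech.projInv_mem * signCo0 dW dW_mem =
    signCo0 dW dW_mem * permCo0 projInv Leech.projInv_mem * zneg := by
  have h := Leech.conj_perm_sign projInv Leech.projInv_mem dW dW_mem
  rw [mul_inv_eq_iff_eq_mul,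
    Leech.signCo0_congr dW_facts.2.2.1 _ (add_mem dW_mem Leech.one_mem),
    ← Leech.signCo0_mul dW 1 dW_mem Leech.one_mem] at h
  rw [h, mul_assoc, mul_assoc]
  exact congrArg _ (Leech.zneg_comm _).symm

theorem bC_lift : (signCo0 dW dW_mem * permCo0 projInv Leech.projInv_mem) *
    (signCo0 dW dW_mem * permCo0 projInv Leech.projInv_mem) = zneg := by
  have hp : permCo0 projInv Leech.projInv_mem * permCo0 projInv Leech.projInv_mem = 1 := by
    rw [← Leech.permCo0_mul]
    refine Leech.ext_of_oct fun i => Subtype.ext (funext fun q => ?_)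
    rw [Leech.permCo0_apply, one_smul]
    simp [dW_facts.2.2.2]
  rw [show ∀ d p : ↥Co0, d * p * (d * p) = d * (p * d) * p from fun d p => by group, flip_dW,
    show ∀ d p n : ↥Co0, d * (d * p * n) * p = d * d * (p * (n * p)) from fun d p n => by group,
    Leech.signCo0_mul, Leech.signCo0_congr (CharTwo.add_self_eq_zero dW) _ (zero_mem _),
    Leech.signCo0_zero, one_mul, ← Leech.zneg_comm, ← mul_assoc, hp, one_mul]

theorem bad_bC : Bad bC := ⟨_, rfl, bC_lift⟩

theorem orderOf_bC : orderOf bC = 2 := by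
  have h : toCo zneg = 1 := Leech.CentOne.toCo_one_iff.2 (Or.inr rfl)
  refine orderOf_eq_prime (by rw [sq, bC, ← map_mul, bC_lift, h]) fun e => ?_
  refine not_bad_sg (zero_mem _) ?_
  rw [sg_zero, ← e]
  exact bad_bC

theorem orderOf_dC : orderOf dC = 2 := by
  refine orderOf_eq_prime (by rw [sq, dC, sg_mul_self dW_mem]) fun e => ?_
  rw [dC, ← sg_zero] at e
  rcases sg_inj dW_mem (zero_mem _) e with e' | e'
  · have := dW_facts.2.1
    rw [← e', hammingNorm_zero] at this
    omega
  · have := weight_compl' dW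
    rw [← e', hammingNorm_zero, dW_facts.2.1] at this
    omega

theorem not_conj_zC_dC : ¬ IsConj zC dC := by
  intro h
  obtain ⟨g, hg⟩ := isConj_iff.1 h.symm
  obtain ⟨k, rfl⟩ := QuotientGroup.mk'_surjective _ g
  change toCo k * dC * (toCo k)⁻¹ = zC at hg
  rw [dC, sg_eq dW_mem, Leech.CentOne.zC, ← map_inv, ← map_mul, ← map_mul,
    Leech.CentOne.toCo_eq_iff] at hg
  set D := signCo0 dW dW_mem with hD
  set P := permCo0 projInv Leech.projInv_mem with hP
  have hf : P * D = D * P * zneg := flip_dW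
  have hz : zneg * zneg = (1 : ↥Co0) := by rw [← sq]; exact Leech.zneg_sq
  have hf' : D * P = P * D * zneg := by
    rw [hf, mul_assoc (D * P), hz, mul_one]
  have key : k * D * k⁻¹ * (k * P * k⁻¹) = k * P * k⁻¹ * (k * D * k⁻¹) * zneg := by
    calc k * D * k⁻¹ * (k * P * k⁻¹) = k * (D * P) * k⁻¹ := by group
      _ = k * (P * D * zneg) * k⁻¹ := by rw [hf']
      _ = k * P * D * (zneg * k⁻¹) := by group
      _ = k * P * D * (k⁻¹ * zneg) := by rw [Leech.zneg_comm]
      _ = k * P * k⁻¹ * (k * D * k⁻¹) * zneg := by group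
  refine Leech.CentOne.not_flip (k * P * k⁻¹) ?_
  generalize k * P * k⁻¹ = g at key ⊢
  generalize k * D * k⁻¹ = T at key hg
  rcases hg with e | e
  · rw [e, key]
  · rw [e, mul_assoc T, ← Leech.zneg_comm, ← mul_assoc, key, mul_assoc g T]

section Monomial

/-- Either fixed or negated by the sign change. -/
def Half (v : leechLattice) : Prop :=
  signCo0 dW dW_mem • v = v ∨ signCo0 dW dW_mem • v = -v

theorem half_smul {g : ↥Co0}
    (hg : signCo0 dW dW_mem * g = g * signCo0 dW dW_mem ∨
      signCo0 dW dW_mem * g = g * signCo0 dW dW_mem * zneg)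
    {v : leechLattice} (hv : Half v) : Half (g • v) := by
  unfold Half at hv ⊢
  rw [← mul_smul]
  rcases hg with e | e <;> rw [e] <;> simp only [mul_smul, Leech.zneg_smul] <;>
    rcases hv with f | f <;> simp [f, Leech.smul_neg']

theorem half_iff (v : leechLattice) : Half v ↔
    ∃ e : Word, (e = dW ∨ e = dW + 1) ∧ ∀ p, e p = 0 → (v : GolayPt → ℤ) p = 0 := by
  constructor
  · rintro (h | h)
    · refine ⟨dW + 1, Or.inr rfl, fun p hp => ?_⟩
      have := congrFun (congrArg Subtype.val h) p
      rw [Leech.signCo0_apply] at this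
      rcases Leech.zmod2_cases (dW p) with e | e
      · exact absurd hp (by simp [e])
      · simp only [Leech.negOn, e] at this
        norm_num at this
        omega
    · refine ⟨dW, Or.inl rfl, fun p hp => ?_⟩
      have := congrFun (congrArg Subtype.val h) p
      rw [Leech.signCo0_apply, AddSubgroup.coe_neg] at this
      simp only [Leech.negOn, hp, Pi.neg_apply] at this
      norm_num at this
      omega
  · rintro ⟨e, rfl | rfl, h⟩
    · refine Or.inr (Subtype.ext (funext fun p => ?_))
      rw [Leech.signCo0_apply, AddSubgroup.coe_neg]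
      rcases Leech.zmod2_cases (dW p) with e | e <;> simp [Leech.negOn, e]
      rw [h p e, neg_zero]
    · refine Or.inl (Subtype.ext (funext fun p => ?_))
      rw [Leech.signCo0_apply]
      rcases Leech.zmod2_cases (dW p) with e | e <;> simp [Leech.negOn, e]
      rw [h p (by simp [e, CharTwo.add_self_eq_zero]), neg_zero]

/-- Short vectors on half of the points have two coordinates `± 4`. -/
theorem two_shape {v : leechLattice} (hn : sqNorm (v : GolayPt → ℤ) = 32) (hv : Half v) :
    ∃ a b : GolayPt, a ≠ b ∧ ∃ s t : ℤ, (s = 1 ∨ s = -1) ∧ (t = 1 ∨ t = -1) ∧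
      (v : GolayPt → ℤ) = Pi.single a (4 * s) + Pi.single b (4 * t) := by
  classical
  obtain ⟨e, he, hsupp⟩ := (half_iff v).1 hv
  have hec : e ∈ golayCode ∧ hammingNorm e = 12 := by
    rcases he with rfl | rfl
    · exact ⟨dW_mem, dW_facts.2.1⟩
    · refine ⟨add_mem dW_mem Leech.one_mem, ?_⟩
      have := weight_compl' dW
      rw [dW_facts.2.1] at this
      omega
  obtain ⟨p0, hp0⟩ : ∃ p, e p = 0 := by
    by_contra hall
    push Not at hall
    have : hammingNorm e = Fintype.card GolayPt := by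
      rw [hammingNorm, Finset.filter_true_of_mem fun p _ => hall p, Finset.card_univ]
    rw [Leech.card_golayPt, hec.2] at this
    omega
  obtain ⟨m, y, hy, -, hd⟩ := Leech.mem_lattice_iff.1 v.2
  obtain ⟨k, rfl⟩ : (2 : ℤ) ∣ m := ⟨-y p0, by have := hy p0; rw [hsupp p0 hp0] at this; omega⟩
  have hzv : ∀ p, (v : GolayPt → ℤ) p = 2 * (k + y p) := fun p => by rw [hy p]; ring
  set z : GolayPt → ℤ := fun p => k + y p with hz
  have hzc : Leech.red2 z ∈ golayCode := by
    have : Leech.red2 z = Leech.red2 y + (k : ZMod 2) • (1 : Word) := by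
      funext p
      simp [Leech.red2, hz, add_comm]
    rw [this]
    exact add_mem hd (Submodule.smul_mem _ _ Leech.one_mem)
  have hz8 : ∑ p, z p ^ 2 = 8 := by
    have h : sqNorm (v : GolayPt → ℤ) = 4 * ∑ p, z p ^ 2 := by
      rw [sqNorm, Finset.mul_sum]
      exact Finset.sum_congr rfl fun p _ => by rw [hzv p, hz]; ring
    omega
  have hsz : support₂ (Leech.red2 z) ⊆ support₂ e := by
    intro p hp
    rw [Leech.mem_support₂] at hp ⊢
    rcases Leech.zmod2_cases (e p) with h | h
    · have h0 := hsupp p h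
      rw [hzv p] at h0
      rw [Leech.red2, show z p = 0 by simp only [hz]; omega] at hp
      simp at hp
    · exact h
  have hle : hammingNorm (Leech.red2 z) ≤ 8 := by
    have := Leech.weight_le_sum_sq z
    omega
  have hev : Leech.red2 z = 0 := by
    rcases Leech.weights hzc with h | h | h | h | h
    · exact hammingNorm_eq_zero.1 h
    · exfalso
      have hw := Leech.weight_add (Leech.red2 z) e
      rw [Finset.inter_eq_left.2 hsz, ← Leech.hammingNorm_eq_card, h, hec.2] at hw
      rcases Leech.weights (add_mem hzc hec.1) with h' | h' | h' | h' | h' <;> omega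
    all_goals omega
  have heven : ∀ p, (2 : ℤ) ∣ z p := fun p =>
    (ZMod.intCast_zmod_eq_zero_iff_dvd _ 2).1 (congrFun hev p)
  choose t ht using heven
  have ht2 : ∑ p, t p ^ 2 = 2 := by
    have : ∑ p, z p ^ 2 = 4 * ∑ p, t p ^ 2 := by
      rw [Finset.mul_sum]
      exact Finset.sum_congr rfl fun p _ => by rw [ht p]; ring
    omega
  have hone : ∀ p, t p = 0 ∨ t p = 1 ∨ t p = -1 := fun p => by
    have h : t p ^ 2 ≤ 2 := ht2 ▸ Finset.single_le_sum (fun i _ => sq_nonneg (t i)) (Finset.mem_univ p)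
    have h1 : t p ≤ 1 := by nlinarith
    have h2 : -1 ≤ t p := by nlinarith
    omega
  have hcard : (Finset.univ.filter fun p => t p ≠ 0).card = 2 := by
    have : ∑ p, t p ^ 2 = ((Finset.univ.filter fun p => t p ≠ 0).card : ℤ) := by
      rw [Finset.natCast_card_filter]
      refine Finset.sum_congr rfl fun p _ => ?_
      rcases hone p with h | h | h <;> simp [h]
    omega
  obtain ⟨a, b, hab, hset⟩ := Finset.card_eq_two.1 hcard
  have ha : t a ≠ 0 := (Finset.mem_filter.1 (hset.symm ▸ Finset.mem_insert_self a {b} :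
    a ∈ Finset.univ.filter fun p => t p ≠ 0)).2
  have hb : t b ≠ 0 := (Finset.mem_filter.1 (hset.symm ▸ Finset.mem_insert_of_mem
    (Finset.mem_singleton_self b) : b ∈ Finset.univ.filter fun p => t p ≠ 0)).2
  refine ⟨a, b, hab, t a, t b, (hone a).resolve_left ha, (hone b).resolve_left hb,
    funext fun p => ?_⟩
  have hvp : (v : GolayPt → ℤ) p = 4 * t p := by
    have h1 := hzv p
    have h2 := ht p
    simp only [hz] at h2
    omega
  rw [hvp, Pi.add_apply]
  by_cases hpa : p = a
  · subst hpa; simp [hab]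
  by_cases hpb : p = b
  · subst hpb; simp [hpa]
  have : t p = 0 := by
    by_contra h
    have hm : p ∈ Finset.univ.filter fun p => t p ≠ 0 := by simp [h]
    rw [hset] at hm
    simp [hpa, hpb] at hm
  simp [hpa, hpb, this]

theorem commute_lift {g : ↥Co0} (h : toCo g * dC = dC * toCo g) :
    signCo0 dW dW_mem * g = g * signCo0 dW dW_mem ∨
      signCo0 dW dW_mem * g = g * signCo0 dW dW_mem * zneg := by
  rw [dC, sg_eq dW_mem, ← map_mul, ← map_mul, Leech.CentOne.toCo_eq_iff] at h
  exact h

theorem frame_of_half {g : ↥Co0} (hg : ∀ v, Half v → Half (g • v))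
    (hg' : ∀ v, Half v → Half (g⁻¹ • v)) (i : GolayPt) :
    ((g • Leech.oct i : leechLattice) : GolayPt → ℤ) ∈ stdCross := by
  classical
  -- the side of a point
  have side : ∀ p, ∃ e : Word, (e = dW ∨ e = dW + 1) ∧ e p = 1 ∧ hammingNorm e = 12 := fun p => by
    rcases Leech.zmod2_cases (dW p) with h | h
    · refine ⟨dW + 1, Or.inr rfl, by simp [h], ?_⟩
      have := weight_compl' dW
      rw [dW_facts.2.1] at this
      omega
    · exact ⟨dW, Or.inl rfl, h, dW_facts.2.1⟩
  have pick : ∀ (p : GolayPt) (l : Finset GolayPt), l.card ≤ 4 → ∃ q, q ∉ l ∧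
      ∀ (s t : ℤ) (h : (2 : ℤ) ∣ s + t), Half (Leech.fourPair p q s t h) := by
    intro p l hl
    obtain ⟨e, he, hep, h12⟩ := side p
    rw [Leech.hammingNorm_eq_card] at h12
    obtain ⟨q, hq, hql⟩ := Finset.exists_mem_notMem_of_card_lt_card
      (show l.card < (support₂ e).card by omega)
    refine ⟨q, hql, fun s t h => (half_iff _).2 ⟨e, he, fun x hx => ?_⟩⟩
    rw [Leech.mem_support₂] at hq
    have h1 : x ≠ p := fun e' => by rw [e', hep] at hx; exact one_ne_zero hx
    have h2 : x ≠ q := fun e' => by rw [e', hq] at hx; exact one_ne_zero hx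
    simp [Leech.fourPair, h1, h2]
  obtain ⟨j, hj, hjh⟩ := pick i {i} (by simp)
  rw [Finset.mem_singleton] at hj
  set u := Leech.fourPair i j 1 1 (by norm_num) with hu
  set v := Leech.fourPair i j 1 (-1) (by norm_num) with hv
  have huv : Leech.oct i = u + v := Subtype.ext (funext fun p => by
    simp only [hu, hv, Leech.oct, Leech.fourPair, AddSubgroup.coe_add, Pi.add_apply]
    by_cases h1 : p = i
    · subst h1; simp [Ne.symm hj]
    by_cases h2 : p = j
    · subst h2; simp [h1]
    simp [h1, h2])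
  obtain ⟨a, b, hab, s, t, hs, ht, hU⟩ := two_shape (v := g • u)
    (by rw [Leech.sqNorm_smul]; exact Leech.norm_fourPair (Ne.symm hj) (by norm_num) (by norm_num) _)
    (hg _ (hjh _ _ _))
  obtain ⟨c, d, hcd, s', t', hs', ht', hV⟩ := two_shape (v := g • v)
    (by rw [Leech.sqNorm_smul]; exact Leech.norm_fourPair (Ne.symm hj) (by norm_num) (by norm_num) _)
    (hg _ (hjh _ _ _))
  have hdot : dotInt ((g • u : leechLattice) : GolayPt → ℤ) ((g • v : leechLattice) : GolayPt → ℤ) = 0 := by
    rw [Leech.dotInt_smul, hv, Leech.dot_fourPair]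
    simp [hu, Leech.fourPair, hj, Ne.symm hj]
  rw [hU, hV, Leech.dotInt_add_right, Leech.dot_single, Leech.dot_single] at hdot
  simp only [Pi.add_apply] at hdot
  rw [huv, Leech.smul_add', AddSubgroup.coe_add, hU, hV]
  by_cases h1 : c = a ∧ d = b
  · obtain ⟨rfl, rfl⟩ := h1
    simp [hab, Ne.symm hab] at hdot
    rcases hs with rfl | rfl <;> rcases hs' with rfl | rfl <;> rcases ht with rfl | rfl <;>
      rcases ht' with rfl | rfl <;> (try norm_num at hdot) <;> norm_num
    all_goals first
      | (refine ⟨c, _, Or.inl rfl, ?_⟩; funext p; simp [Pi.single_apply]; split_ifs <;> norm_num; done)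
      | (refine ⟨c, _, Or.inr rfl, ?_⟩; funext p; simp [Pi.single_apply]; split_ifs <;> norm_num; done)
      | (refine ⟨d, _, Or.inl rfl, ?_⟩; funext p; simp [Pi.single_apply]; split_ifs <;> norm_num; done)
      | (refine ⟨d, _, Or.inr rfl, ?_⟩; funext p; simp [Pi.single_apply]; split_ifs <;> norm_num; done)
  by_cases h2 : c = b ∧ d = a
  · obtain ⟨rfl, rfl⟩ := h2
    simp [hab, Ne.symm hab] at hdot
    rcases hs with rfl | rfl <;> rcases hs' with rfl | rfl <;> rcases ht with rfl | rfl <;>
      rcases ht' with rfl | rfl <;> (try norm_num at hdot) <;> norm_num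
    all_goals first
      | (refine ⟨c, _, Or.inl rfl, ?_⟩; funext p; simp [Pi.single_apply]; split_ifs <;> norm_num; done)
      | (refine ⟨c, _, Or.inr rfl, ?_⟩; funext p; simp [Pi.single_apply]; split_ifs <;> norm_num; done)
      | (refine ⟨d, _, Or.inl rfl, ?_⟩; funext p; simp [Pi.single_apply]; split_ifs <;> norm_num; done)
      | (refine ⟨d, _, Or.inr rfl, ?_⟩; funext p; simp [Pi.single_apply]; split_ifs <;> norm_num; done)
  exfalso
  have hdis : a ≠ c ∧ a ≠ d ∧ b ≠ c ∧ b ≠ d := by
    refine ⟨?_, ?_, ?_, ?_⟩ <;> intro h <;> subst h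
    · have : d ≠ b := fun e => h1 ⟨rfl, e⟩
      simp [hab, Ne.symm hab, hcd, Ne.symm hcd, this, Ne.symm this] at hdot
      rcases hs with rfl | rfl <;> rcases hs' with rfl | rfl <;> simp at hdot
    · have : c ≠ b := fun e => h2 ⟨e, rfl⟩
      simp [hab, Ne.symm hab, hcd, Ne.symm hcd, this, Ne.symm this] at hdot
      rcases hs with rfl | rfl <;> rcases ht' with rfl | rfl <;> simp at hdot
    · have : d ≠ a := fun e => h2 ⟨rfl, e⟩
      simp [hab, Ne.symm hab, hcd, Ne.symm hcd, this, Ne.symm this] at hdot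
      rcases ht with rfl | rfl <;> rcases hs' with rfl | rfl <;> simp at hdot
    · have : c ≠ a := fun e => h1 ⟨e, rfl⟩
      simp [hab, Ne.symm hab, hcd, Ne.symm hcd, this, Ne.symm this] at hdot
      rcases ht with rfl | rfl <;> rcases ht' with rfl | rfl <;> simp at hdot
  obtain ⟨e, he, heh⟩ := pick a {a, b, c, d} (by
    exact (Finset.card_insert_le _ _).trans (Nat.succ_le_succ ((Finset.card_insert_le _ _).trans
      (Nat.succ_le_succ ((Finset.card_insert_le _ _).trans (by simp))))))
  simp only [Finset.mem_insert, Finset.mem_singleton, not_or] at he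
  obtain ⟨hea, heb, hec, hed⟩ := he
  have h2s : (2 : ℤ) ∣ s + 1 := by rcases hs with rfl | rfl <;> norm_num
  set w := Leech.fourPair a e s 1 h2s with hw
  have hwn : sqNorm (w : GolayPt → ℤ) = 32 :=
    Leech.norm_fourPair (Ne.symm hea) (by rcases hs with rfl | rfl <;> norm_num) (by norm_num) _
  obtain ⟨a', b', hab', x, y, -, -, hW⟩ := two_shape (v := g⁻¹ • w)
    (by rw [Leech.sqNorm_smul]; exact hwn) (hg' _ (heh _ _ _))
  have e1 : dotInt ((g⁻¹ • w : leechLattice) : GolayPt → ℤ) (u : GolayPt → ℤ) = 16 := by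
    rw [← Leech.dotInt_smul g, smul_inv_smul, hU, Leech.dotInt_add_right, Leech.dot_single,
      Leech.dot_single]
    simp [hw, Leech.fourPair, hea, heb, hab, Ne.symm hab, Ne.symm hea, Ne.symm heb]
    rcases hs with rfl | rfl <;> norm_num
  have e2 : dotInt ((g⁻¹ • w : leechLattice) : GolayPt → ℤ) (v : GolayPt → ℤ) = 0 := by
    rw [← Leech.dotInt_smul g, smul_inv_smul, hV, Leech.dotInt_add_right, Leech.dot_single,
      Leech.dot_single]
    simp [hw, Leech.fourPair, hec, hed, hdis.1, hdis.2.1, Ne.symm hdis.1, Ne.symm hdis.2.1,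
      Ne.symm hec, Ne.symm hed]
  rw [hu, Leech.dot_fourPair] at e1
  rw [hv, Leech.dot_fourPair] at e2
  have h4 : ∀ p, (4 : ℤ) ∣ ((g⁻¹ • w : leechLattice) : GolayPt → ℤ) p := fun p => by
    rw [hW, Pi.add_apply, Pi.single_apply, Pi.single_apply]
    exact dvd_add (by split_ifs <;> simp) (by split_ifs <;> simp)
  have := h4 i
  omega

/-- The centraliser of the dodecad involution is monomial. -/
theorem mono_of_comm {x : Spor.Co1} (h : x * dC = dC * x) : Mono x := by
  obtain ⟨g, rfl⟩ := QuotientGroup.mk'_surjective _ x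
  change toCo g * dC = dC * toCo g at h
  have h' : toCo g⁻¹ * dC = dC * toCo g⁻¹ := by
    rw [map_inv]; exact (Commute.inv_left h).eq
  obtain ⟨σ, hσ, c, hc, rfl⟩ := Leech.exists_of_stdFrame g (frame_of_half
    (fun v => half_smul (commute_lift h)) (fun v => half_smul (commute_lift h')))
  exact ⟨σ, hσ, c, hc, rfl⟩

end Monomial

end Cfsg.Agent.CoOneUniq.Endgame
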