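import Cfsg.Agent.Leech.CentOneCo
import Cfsg.Agent.Leech.SignGroup
import Cfsg.Agent.Leech.Steiner
import Cfsg.Agent.Leech.Count
import Cfsg.Agent.Compute.MathieuActions

/-!
Sign changes in the first Conway group, by code words: the class of the marked involution contains
those of the octad words, and a subgroup of dodecad words meets the translates by octad words in
varying numbers.
-/

set_option autoImplicit false

open Cfsg
open scoped Pointwise

namespace Cfsg.Agent.CoOneUniq.Endgame

open Cfsg.Agent.Leech (signCo0 permCo0)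
open Cfsg.Agent.Leech.CentOne (toCo zC)

/-- The binary words. -/
abbrev Word : Type := GolayPt → ZMod 2

open scoped _root_.Classical in
/-- The image of a sign change. -/
noncomputable def sg (c : Word) : Spor.Co1 :=
  if h : c ∈ golayCode then toCo (signCo0 c h) else 1

theorem sg_eq {c : Word} (h : c ∈ golayCode) : sg c = toCo (signCo0 c h) := dif_pos h

theorem sg_add {c d : Word} (hc : c ∈ golayCode) (hd : d ∈ golayCode) :
    sg (c + d) = sg c * sg d := by
  rw [sg_eq (add_mem hc hd), sg_eq hc, sg_eq hd, ← map_mul, Leech.signCo0_mul]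

theorem sg_comm {c d : Word} (hc : c ∈ golayCode) (hd : d ∈ golayCode) :
    sg c * sg d = sg d * sg c := by
  rw [← sg_add hc hd, ← sg_add hd hc, add_comm]

theorem sg_one : sg 1 = 1 := by
  rw [sg_eq Leech.one_mem]
  exact Leech.CentOne.toCo_one_iff.2 (Or.inr rfl)

theorem sg_zero : sg 0 = 1 := by
  rw [sg_eq (zero_mem _), Leech.signCo0_zero, map_one]

theorem sg_mul_self {c : Word} (hc : c ∈ golayCode) : sg c * sg c = 1 := by
  rw [← sg_add hc hc, CharTwo.add_self_eq_zero, sg_zero]

theorem signCo0_inj {c d : Word} {hc : c ∈ golayCode} {hd : d ∈ golayCode}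
    (h : signCo0 c hc = signCo0 d hd) : c = d := by
  funext p
  have e := congrFun (congrArg Subtype.val
    (congrArg (fun g : ↥Co0 => g • Leech.oct p) h)) p
  simp only [Leech.signCo0_apply, Leech.negOn, Leech.oct, Pi.single_eq_same] at e
  rcases Leech.zmod2_cases (c p) with h1 | h1 <;> rcases Leech.zmod2_cases (d p) with h2 | h2 <;>
    simp [h1, h2] at e ⊢

theorem sg_inj {c d : Word} (hc : c ∈ golayCode) (hd : d ∈ golayCode) (h : sg c = sg d) :
    d = c ∨ d = c + 1 := by
  rw [sg_eq hc, sg_eq hd, Leech.CentOne.toCo_eq_iff] at h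
  rcases h with e | e
  · exact Or.inl (signCo0_inj e)
  · exact Or.inr (signCo0_inj (e.trans (Leech.signCo0_mul c 1 hc Leech.one_mem)))

/-- A monomial element. -/
def Mono (x : Spor.Co1) : Prop :=
  ∃ σ, ∃ hσ : σ ∈ M24, ∃ d, ∃ hd : d ∈ golayCode, x = toCo (signCo0 d hd * permCo0 σ hσ)

theorem hammingNorm_comp (σ : Equiv.Perm GolayPt) (c : Word) :
    hammingNorm (fun p => c (σ p)) = hammingNorm c := by
  refine Finset.card_equiv σ fun p => ?_
  simp

theorem conj_mono {x : Spor.Co1} (hx : Mono x) {c : Word} (hc : c ∈ golayCode) :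
    ∃ c' ∈ golayCode, hammingNorm c' = hammingNorm c ∧ x * sg c * x⁻¹ = sg c' := by
  obtain ⟨σ, hσ, d, hd, rfl⟩ := hx
  have hc' := Leech.comp_mem_of_M24 (inv_mem hσ) hc
  refine ⟨_, hc', hammingNorm_comp σ⁻¹ c, ?_⟩
  rw [sg_eq hc, ← map_inv, ← map_mul, ← map_mul, sg_eq hc',
    show signCo0 d hd * permCo0 σ hσ * signCo0 c hc * (signCo0 d hd * permCo0 σ hσ)⁻¹ =
      signCo0 d hd * (permCo0 σ hσ * signCo0 c hc * (permCo0 σ hσ)⁻¹) * (signCo0 d hd)⁻¹ by group,
    Leech.conj_perm_sign, Leech.signCo0_inv, Leech.signCo0_mul, Leech.signCo0_mul]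
  refine congrArg toCo (Leech.signCo0_congr ?_ _ _)
  rw [add_comm d, add_assoc, CharTwo.add_self_eq_zero, add_zero]
  rfl

/-- Weight eight or sixteen. -/
def Off (c : Word) : Prop := hammingNorm c = 8 ∨ hammingNorm c = 16

instance : DecidablePred Off := fun c =>
  inferInstanceAs (Decidable (hammingNorm c = 8 ∨ hammingNorm c = 16))

theorem weight_compl' (u : Word) : hammingNorm (u + 1) + hammingNorm u = 24 := by
  classical
  rw [Leech.hammingNorm_eq_card, Leech.hammingNorm_eq_card,
    show support₂ (u + 1) = (support₂ u)ᶜ from Finset.ext fun i => by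
      rw [Finset.mem_compl, Leech.mem_support₂, Leech.mem_support₂, Pi.add_apply, Pi.one_apply]
      rcases Leech.zmod2_cases (u i) with e | e <;> rw [e] <;>
        simp [CharTwo.add_self_eq_zero],
    Finset.card_compl, Leech.card_golayPt]
  have := Finset.card_le_univ (support₂ u)
  rw [Leech.card_golayPt] at this
  omega

theorem off_compl {c : Word} : Off (c + 1) ↔ Off c := by
  have := weight_compl' c
  unfold Off
  omega

theorem off_of_sg {c d : Word} (hc : c ∈ golayCode) (hd : d ∈ golayCode) (h : sg c = sg d) :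
    Off d ↔ Off c := by
  rcases sg_inj hc hd h with rfl | rfl
  · exact Iff.rfl
  · exact off_compl

theorem weight_of_not_off {c : Word} (hc : c ∈ golayCode) (h : ¬ Off c) (h0 : c ≠ 0) (h1 : c ≠ 1) :
    hammingNorm c = 12 := by
  rcases Leech.weights hc with e | e | e | e | e
  · exact absurd (hammingNorm_eq_zero.1 e) h0
  · exact absurd (Or.inl e) h
  · exact e
  · exact absurd (Or.inr e) h
  · exfalso
    have := weight_compl' c
    rw [e] at this
    have h' : c + 1 = 0 := hammingNorm_eq_zero.1 (by omega)
    exact h1 (by rw [← add_zero c, ← CharTwo.add_self_eq_zero (1 : Word), ← add_assoc, h', zero_add])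

/-- The word of the marked involution. -/
def octW : Word := Leech.bitWord 7430140

theorem octW_facts : Leech.dec octW = octW ∧ hammingNorm octW = 16 ∧
    ∀ p, (octW p = 0 ↔ p ∈ Leech.CentTwo.octF) := by decide +kernel

theorem zC_eq : zC = sg octW := by
  rw [sg_eq ((Leech.mem_iff _).2 octW_facts.1), Leech.CentOne.zC]
  refine congrArg toCo (Leech.ext_of_oct fun i => Subtype.ext (funext fun q => ?_))
  rw [Leech.CentTwo.tGen_apply, Leech.signCo0_apply]
  simp only [Leech.negOn, ← octW_facts.2.2 q]

/-- Octad words give conjugates of the marked involution. -/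
theorem isConj_off {c : Word} (hc : c ∈ golayCode) (h : Off c) : IsConj zC (sg c) := by
  classical
  have h8 : ∀ o ∈ golayCode, hammingNorm o = 8 → IsConj zC (sg o) := by
    intro o ho h8
    have ho' : hammingNorm (octW + 1) = 8 := by
      have := weight_compl' octW
      rw [octW_facts.2.1] at this
      omega
    have hw : octW + 1 ∈ golayCode := add_mem ((Leech.mem_iff _).2 octW_facts.1) Leech.one_mem
    have m1 : support₂ o ∈ octads := ⟨⟨o, ho, rfl⟩, (Leech.hammingNorm_eq_card o).symm.trans h8⟩
    have m2 : support₂ (octW + 1) ∈ octads :=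
      ⟨⟨_, hw, rfl⟩, (Leech.hammingNorm_eq_card _).symm.trans ho'⟩
    obtain ⟨g, hg, hgo⟩ := Compute.exists_move_octad m1
    obtain ⟨k, hk, hko⟩ := Compute.exists_move_octad m2
    have hgk : g⁻¹ * k ∈ M24 := mul_mem (inv_mem hg) hk
    have e : (g⁻¹ * k) • support₂ (octW + 1) = support₂ o := by
      rw [mul_smul, hko, ← hgo, inv_smul_smul]
    rw [Leech.smul_support₂] at e
    have hperm := Leech.conj_perm_sign (g⁻¹ * k) hgk (octW + 1) hw
    refine isConj_iff.2 ⟨toCo (permCo0 (g⁻¹ * k) hgk), ?_⟩
    rw [zC_eq, show sg octW = sg (octW + 1) by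
      rw [sg_add ((Leech.mem_iff _).2 octW_facts.1) Leech.one_mem, sg_one, mul_one],
      sg_eq hw, ← map_inv, ← map_mul, ← map_mul, hperm, sg_eq ho]
    exact congrArg toCo (Leech.signCo0_congr (Leech.support₂_injective e) _ _)
  rcases h with h | h
  · exact h8 c hc h
  · have hs : sg c = sg (c + 1) := by rw [sg_add hc Leech.one_mem, sg_one, mul_one]
    rw [hs]
    refine h8 _ (add_mem hc Leech.one_mem) ?_
    have := weight_compl' c
    omega

/-- The octad words. -/
noncomputable def octWords : Finset Word :=
  open scoped _root_.Classical in Finset.univ.filter fun c => c ∈ golayCode ∧ hammingNorm c = 8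

theorem mem_octWords {c : Word} : c ∈ octWords ↔ c ∈ golayCode ∧ hammingNorm c = 8 := by
  classical
  simp [octWords]

theorem card_octWords : octWords.card = 759 := by
  rw [← Leech.card_octadWords, ← Set.ncard_coe_finset]
  congr 1
  ext c
  simp [mem_octWords]

/-- A dodecad word is the sum of two octad words, or their complement, in 264 ways. -/
theorem count_off {w : Word} (hw : w ∈ golayCode) (h12 : hammingNorm w = 12) :
    (octWords.filter fun b => Off (b + w)).card = 264 := by
  classical
  have hB := Leech.steiner golayCode Leech.card_golayPt Leech.finrank_golayCode Leech.orth_golay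
    Leech.min_golay
  set Bf : Finset (Finset GolayPt) := octWords.image support₂ with hBf
  have hmem : ∀ b, b ∈ Bf ↔ b ∈ wordsOfWeight (golayCode : Set Word) 8 := by
    intro b
    simp only [hBf, Finset.mem_image, mem_octWords]
    exact ⟨fun ⟨c, ⟨hc, h8⟩, e⟩ => e ▸ ⟨⟨c, hc, rfl⟩, (Leech.hammingNorm_eq_card c).symm.trans h8⟩,
      fun ⟨⟨c, hc, e⟩, h8⟩ => ⟨c, ⟨hc, by rw [Leech.hammingNorm_eq_card, e]; exact h8⟩, e⟩⟩
  set Y := support₂ w with hY
  have hYc : Y.card = 12 := by rw [hY, ← Leech.hammingNorm_eq_card, h12]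
  have hlam : ∀ (j r : ℕ), j ≤ 5 → r * (8 - j).choose (5 - j) = (24 - j).choose (5 - j) →
      0 < (8 - j).choose (5 - j) → ∀ S ∈ Y.powersetCard j, (Bf.filter fun b => S ⊆ b).card = r := by
    intro j r hj hr hpos S hS
    have h := Leech.lam_mul hB Bf hmem S (by rw [(Finset.mem_powersetCard.1 hS).2]; exact hj)
    rw [(Finset.mem_powersetCard.1 hS).2, Leech.card_golayPt, ← hr] at h
    exact Nat.eq_of_mul_eq_mul_right hpos h
  have s1 : ∑ b ∈ octWords, (support₂ b ∩ Y).card.choose 1 = 3036 := by
    rw [← Finset.sum_image (g := support₂) (f := fun s => (s ∩ Y).card.choose 1)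
        (fun a _ b _ h => Leech.support₂_injective h), ← hBf, Leech.sum_choose_inter,
      Finset.sum_congr rfl (hlam 1 253 (by norm_num) (by decide) (by decide)), Finset.sum_const,
      Finset.card_powersetCard, hYc]
    rfl
  have s2 : ∑ b ∈ octWords, (support₂ b ∩ Y).card.choose 2 = 5082 := by
    rw [← Finset.sum_image (g := support₂) (f := fun s => (s ∩ Y).card.choose 2)
        (fun a _ b _ h => Leech.support₂_injective h), ← hBf, Leech.sum_choose_inter,
      Finset.sum_congr rfl (hlam 2 77 (by norm_num) (by decide) (by decide)), Finset.sum_const,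
      Finset.card_powersetCard, hYc]
    rfl
  have hval : ∀ b ∈ octWords, 4 * (if Off (b + w) then 1 else 0) +
      7 * (support₂ b ∩ Y).card.choose 1 = 2 * (support₂ b ∩ Y).card.choose 2 + 16 := by
    intro b hb
    obtain ⟨hbc, hb8⟩ := mem_octWords.1 hb
    have hwt := Leech.weight_add b w
    rw [hb8, h12, ← hY] at hwt
    have hle : (support₂ b ∩ Y).card ≤ 8 := by
      rw [← hb8, Leech.hammingNorm_eq_card]
      exact Finset.card_le_card Finset.inter_subset_left
    have hne : hammingNorm (b + w) ≠ 24 := fun e => by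
      have h1 := weight_compl' (b + w)
      rw [e] at h1
      have h2 : b + w + 1 = 0 := hammingNorm_eq_zero.1 (by omega)
      have h3 : b = w + 1 := CharTwo.add_eq_zero.1 (by rw [← add_assoc]; exact h2)
      have h4 := weight_compl' w
      rw [← h3, hb8, h12] at h4
      omega
    rcases Leech.weights (add_mem hbc hw) with e | e | e | e | e
    · omega
    · have hi : (support₂ b ∩ Y).card = 6 := by omega
      rw [if_pos (show Off (b + w) from Or.inl e), hi]; rfl
    · have hi : (support₂ b ∩ Y).card = 4 := by omega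
      rw [if_neg (show ¬ Off (b + w) by rintro (h | h) <;> omega), hi]; rfl
    · have hi : (support₂ b ∩ Y).card = 2 := by omega
      rw [if_pos (show Off (b + w) from Or.inr e), hi]; rfl
    · exact absurd e hne
  have hsum := Finset.sum_congr rfl hval
  rw [Finset.sum_add_distrib, Finset.sum_add_distrib, ← Finset.mul_sum, ← Finset.mul_sum,
    ← Finset.mul_sum, s1, s2, Finset.sum_const, card_octWords, ← Finset.card_filter,
    smul_eq_mul] at hsum
  omega

/-- The words of a group of dodecad words lying over octad classes. -/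
noncomputable def offCount (W : AddSubgroup Word) (b : Word) : ℕ :=
  Nat.card {w : Word // w ∈ W ∧ Off (b + w)}

/-- Invariance of the count. -/
theorem offCount_shift {W : AddSubgroup Word} {w₀ : Word} (hw₀ : w₀ ∈ W) (b : Word) :
    offCount W (b + w₀) = offCount W b := by
  refine Nat.card_congr ((Equiv.addLeft w₀).subtypeEquiv fun w => ?_)
  simp [W.add_mem_cancel_left hw₀, add_assoc]

/-- Two octad words with different counts. -/
theorem exists_offCount_ne {W : AddSubgroup Word} (hW : ∀ w ∈ W, w ∈ golayCode ∧ ¬ Off w)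
    (h1 : (1 : Word) ∈ W) {d : Word} (hd : d ∈ W) (hd12 : hammingNorm d = 12) :
    ∃ a ∈ octWords, ∃ b ∈ octWords, offCount W a ≠ offCount W b := by
  classical
  by_contra hall
  push Not at hall
  obtain ⟨a, ha⟩ : octWords.Nonempty := Finset.card_pos.1 (by rw [card_octWords]; norm_num)
  set Wf : Finset Word := Finset.univ.filter fun w => w ∈ W with hWf
  have hcount : ∀ b, offCount W b = (Wf.filter fun w => Off (b + w)).card := fun b => by
    rw [offCount, Nat.card_eq_fintype_card, Fintype.card_subtype, hWf, Finset.filter_filter]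
  have htot : ∑ b ∈ octWords, offCount W b = 759 * offCount W a := by
    rw [Finset.sum_congr rfl fun b hb => hall b hb a ha, Finset.sum_const, card_octWords,
      smul_eq_mul]
  rw [Finset.sum_congr rfl fun b _ => hcount b] at htot
  simp only [Finset.card_filter] at htot
  rw [Finset.sum_comm] at htot
  simp only [← Finset.card_filter] at htot
  have h10 : (1 : Word) ≠ 0 := fun e => by simpa using congrFun e none
  have hval : ∀ w ∈ Wf, (octWords.filter fun b => Off (b + w)).card =
      if w = 0 ∨ w = 1 then 759 else 264 := by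
    intro w hw
    have hwW : w ∈ W := (Finset.mem_filter.1 hw).2
    split_ifs with h
    · rw [← card_octWords]
      congr 1
      refine Finset.filter_eq_self.2 fun b hb => ?_
      rcases h with rfl | rfl
      · rw [add_zero]; exact Or.inl (mem_octWords.1 hb).2
      · rw [off_compl]; exact Or.inl (mem_octWords.1 hb).2
    · rw [not_or] at h
      exact count_off (hW w hwW).1 (weight_of_not_off (hW w hwW).1 (hW w hwW).2 h.1 h.2)
  rw [Finset.sum_congr rfl hval, Finset.sum_ite, Finset.sum_const, Finset.sum_const,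
    smul_eq_mul, smul_eq_mul] at htot
  have hpair : Wf.filter (fun w => w = 0 ∨ w = 1) = {0, 1} := by
    ext w
    simp only [hWf, Finset.mem_filter, Finset.mem_univ, true_and, Finset.mem_insert,
      Finset.mem_singleton]
    exact ⟨fun h => h.2, fun h => ⟨by rcases h with rfl | rfl; exacts [zero_mem W, h1], h⟩⟩
  have hsplit := Finset.card_filter_add_card_filter_not (s := Wf) (fun w => w = 0 ∨ w = 1)
  rw [hpair, Finset.card_pair h10.symm] at hsplit htot
  have hWc : Nat.card W = Wf.card := by
    rw [Nat.card_eq_fintype_card, hWf]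
    exact Fintype.card_subtype _
  -- the order of `W` is a power of two
  have hcard : Nat.card ↥W ∣ 4096 := by
    have hle : W ≤ golayCode.toAddSubgroup := fun w hw => (hW w hw).1
    refine (AddSubgroup.card_dvd_of_le hle).trans (dvd_of_eq ?_)
    show Nat.card ↥golayCode = 4096
    rw [Module.natCard_eq_pow_finrank (K := ZMod 2), Leech.finrank_golayCode, Nat.card_zmod]
    norm_num
  have h4 : 3 ≤ Wf.card := by
    have : ({0, 1, d} : Finset Word) ⊆ Wf := by
      intro x hx
      simp only [Finset.mem_insert, Finset.mem_singleton] at hx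
      rw [hWf, Finset.mem_filter]
      rcases hx with rfl | rfl | rfl
      exacts [⟨Finset.mem_univ _, zero_mem W⟩, ⟨Finset.mem_univ _, h1⟩, ⟨Finset.mem_univ _, hd⟩]
    refine le_trans (le_of_eq ?_) (Finset.card_le_card this)
    have hd0 : (0 : Word) ≠ d := fun e => by simp [← e] at hd12
    have hd1 : (1 : Word) ≠ d := fun e => by
      have := weight_compl' d
      rw [← e, CharTwo.add_self_eq_zero, hammingNorm_zero, e, hd12] at this
      omega
    rw [Finset.card_insert_of_notMem (by simp [h10.symm, hd0]),
      Finset.card_insert_of_notMem (by simp [hd1]), Finset.card_singleton]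
  have hlt : Wf.card ≠ 4096 := fun e => by
    obtain ⟨o, ho⟩ : octWords.Nonempty := ⟨a, ha⟩
    have heq : W = golayCode.toAddSubgroup := by
      refine AddSubgroup.eq_of_le_of_card_ge (fun w hw => (hW w hw).1) (le_of_eq ?_)
      show Nat.card ↥golayCode = Nat.card ↥W
      rw [hWc, e, Module.natCard_eq_pow_finrank (K := ZMod 2), Leech.finrank_golayCode,
        Nat.card_zmod]
      norm_num
    exact (hW o (heq ▸ (mem_octWords.1 ho).1)).2 (Or.inl (mem_octWords.1 ho).2)
  rw [hWc, show (4096 : ℕ) = 2 ^ 12 by norm_num, Nat.dvd_prime_pow Nat.prime_two] at hcard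
  obtain ⟨k, hk, hk'⟩ := hcard
  have h759 : (759 : ℕ) ∣ 264 * (2 ^ k - 2) := by
    refine (Nat.dvd_add_right (dvd_mul_left 759 2)).1 ⟨offCount W a, ?_⟩
    rw [← htot, ← hk', show Wf.card - 2 = (Wf.filter fun w => ¬ (w = 0 ∨ w = 1)).card by omega]
    ring
  rw [hk'] at h4 hlt
  have key : ∀ k < 12, 2 ≤ k → ¬ (759 : ℕ) ∣ 264 * (2 ^ k - 2) := by decide
  refine key k ?_ ?_ h759
  · rcases Nat.lt_or_ge k 12 with h | h
    · exact h
    · exact absurd (by rw [show k = 12 by omega]; norm_num) hlt
  · by_contra h
    have : k = 0 ∨ k = 1 := by omega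
    rcases this with rfl | rfl <;> omega

end Cfsg.Agent.CoOneUniq.Endgame
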